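import Cfsg.Agent.H995.U33.C1
import Cfsg.Agent.H465.IF.BCentThree
import Cfsg.Agent.H819.U33.Words
import Cfsg.Agent.H913.U33.Ne

/-!
# C1 of S5525: `f = d₁ d₂`, `|C(d₁, d₂)| = 129123503308800`, `C(f) = ⟨f⟩ × C(d₁, d₂)` (helper995, helper465)
-/

set_option autoImplicit false
set_option linter.constructorNameAsVariable false

namespace Cfsg.Agent.H819.U33

open Subgroup
open Cfsg.Agent.BabyM.Conc Cfsg.Agent.BabyM.TransInv Cfsg.Agent.BabyM.TransOrd Cfsg.Agent.H995.U33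
open Cfsg.Agent.H465.Gen

/-- Words of the axes of `d₁`, `d₂`. -/
def va1 : List Ltr := [.p6, .xi, .p4, .tau, .Z7, .X0, .p3, .xi, .p5, .y9, .h, .p4]

def va2 : List Ltr := [.p6, .xi, .p4, .tau, .X7, .X2, .h, .p8, .xi, .y2, .p5]

theorem wd1_eq : g wd1 = g (tw va1) := eq_of (by decide +kernel)

theorem wd2_eq : g wd2 = g (tw va2) := eq_of (by decide +kernel)

/-- `d₁ d₂ = f`. -/
theorem d1_mul_d2 : g wd1 * g wd2 = g wf := by
  rw [← g_append]
  exact eq_of (by decide +kernel)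

theorem isConj_tw (v : List Ltr) : IsConj BDisp.t₀ (g (tw v)) := by
  rw [isConj_iff]
  exact ⟨BM.StageW.Wg v, (g_tw v).symm⟩

theorem isConj_d1 : IsConj BDisp.t₀ (g wd1) := by
  rw [wd1_eq]
  exact isConj_tw _

theorem isConj_d2 : IsConj BDisp.t₀ (g wd2) := by
  rw [wd2_eq]
  exact isConj_tw _

theorem d1_sq : g wd1 * g wd1 = 1 := by
  rw [← g_append, ← g_nil]
  exact eq_of (by decide +kernel)

theorem d2_sq : g wd2 * g wd2 = 1 := by
  rw [← g_append, ← g_nil]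
  exact eq_of (by decide +kernel)

theorem f_ne_one : g wf ≠ 1 := by
  rw [← g_nil]
  exact ne_of (by decide +kernel)

theorem d1_ne_d2 : g wd1 ≠ g wd2 := by
  intro h
  apply f_ne_one
  rw [← d1_mul_d2, h, d2_sq]

/-- **`|X| = |Fi22:2|`.** -/
theorem card_XX : Nat.card XX = 129123503308800 := by
  unfold XX
  refine H465.IF.BBraid.card_of_three isConj_d1 isConj_d2 d1_ne_d2 ?_
  rw [d1_mul_d2]
  exact f_three

/-- **`C(f) = ⟨f⟩ × X`**, from the bound. -/
theorem cent_f (hb : Nat.card (centralizer ({g wf} : Set G)) ≤ 387370509926400) :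
    g wf ∉ XX ∧ ∀ h : G, h * g wf = g wf * h → ∃ i < 3, ∃ k ∈ XX, h = g wf ^ i * k := by
  have h := H465.IF.BCentThree.cent_three isConj_d1 isConj_d2 d1_ne_d2 (by rw [d1_mul_d2]; exact f_three)
    (by rw [d1_mul_d2]; exact hb)
  rw [d1_mul_d2] at h
  exact h

end Cfsg.Agent.H819.U33
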