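import Cfsg.Agent.H995.IMB
import Cfsg.Agent.H819.U33.Base

/-!
# C1 of S5525: the centraliser of two transpositions with product of order 3 (helper995)

If the axes of two transpositions `d`, `e` of the Baby Monster have inner product `± 1/4`, then
`|C(d) ∩ C(e)| = 129123503308800` (`= |Fi22:2|`).
-/

set_option autoImplicit false
set_option linter.constructorNameAsVariable false

namespace Cfsg.Agent.H995.U33

open Cfsg.Agent.BabyM.Model Cfsg.Agent.BabyM.Conc Cfsg.Agent.BabyM.Inst Cfsg.Agent.BabyM.TransInv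
  Cfsg.Agent.BabyM.TransOrd Cfsg.Agent.H995.BSch Cfsg.Agent.H995.BSchVal Cfsg.Agent.H816.IMEig
  Cfsg.Agent.H816.IMEig.Col Cfsg.Agent.H995.IMB Cfsg.Agent.BabyM.InstVec Cfsg.Agent.BabyM.InstZ
  Cfsg.Agent.BabyM.TransCover Cfsg.Agent.BabyM.TransData Cfsg.Agent.BabyM.TransFields

noncomputable section

/-- The base transposition. -/
def tb : M.G := ⟨M.t₀, BabyM.Instance.all.C_le_G BabyM.Instance.all.t₀_C⟩

theorem finX : Finite (X M) := by
  have : Finite M.G := BabyM.Instance.all.finite_G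
  unfold X
  infer_instance

/-- The number of points of colour `3`. -/
theorem kk_three (x : X M) : Nat.card {y : X M // cX M x y = 3} = 2370830336 := by
  have := finX
  obtain ⟨z₀, h1, h2⟩ := exists_z
  have hc := sch.isCol BabyM.Instance.all BabyM.Instance.tr
  have h3 := hc.kk_eq x (QuotientGroup.mk 1) 3
  have h4 := kk_eq_sum (c := cX M) (QuotientGroup.mk 1) z₀ 3
  have h5 : ∀ w, tt (cX M) (QuotientGroup.mk 1) z₀ 3 w = t 3 w := fun w => h2 3 w
  simp only [h5] at h4
  show kk (cX M) x 3 = _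
  rw [h3, h4]
  decide +kernel

theorem mem_stab (g h : M.G) :
    h ∈ MulAction.stabilizer M.G (QuotientGroup.mk g : X M) ↔ h ∈ Subgroup.centralizer ({g * tb * g⁻¹} : Set M.G) := by
  rw [MulAction.mem_stabilizer_iff, Subgroup.mem_centralizer_singleton_iff]
  have h1 : h • (QuotientGroup.mk g : X M) = QuotientGroup.mk (h * g) := rfl
  rw [h1]
  constructor
  · intro h2
    have h3 := QuotientGroup.eq.1 h2
    rw [HH_eq BabyM.Instance.all BabyM.Instance.tr, Subgroup.mem_centralizer_singleton_iff] at h3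
    have h4 : (h * g)⁻¹ * g * tb = tb * ((h * g)⁻¹ * g) := h3
    have h5 : g⁻¹ * h⁻¹ * g * tb = tb * g⁻¹ * h⁻¹ * g := by
      simpa only [mul_inv_rev, mul_assoc] using h4
    have h6 : h⁻¹ * (g * tb * g⁻¹) = g * tb * g⁻¹ * h⁻¹ := by
      calc h⁻¹ * (g * tb * g⁻¹) = g * (g⁻¹ * h⁻¹ * g * tb) * g⁻¹ := by group
        _ = g * (tb * g⁻¹ * h⁻¹ * g) * g⁻¹ := by rw [h5]
        _ = _ := by group
    calc h * (g * tb * g⁻¹) = h * (g * tb * g⁻¹ * h⁻¹) * h := by group
      _ = h * (h⁻¹ * (g * tb * g⁻¹)) * h := by rw [h6]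
      _ = _ := by group
  · intro h2
    rw [QuotientGroup.eq, HH_eq BabyM.Instance.all BabyM.Instance.tr, Subgroup.mem_centralizer_singleton_iff]
    show (h * g)⁻¹ * g * tb = tb * ((h * g)⁻¹ * g)
    have h3 : h⁻¹ * (g * tb * g⁻¹) = g * tb * g⁻¹ * h⁻¹ := by
      calc h⁻¹ * (g * tb * g⁻¹) = h⁻¹ * (g * tb * g⁻¹ * h) * h⁻¹ := by group
        _ = h⁻¹ * (h * (g * tb * g⁻¹)) * h⁻¹ := by rw [h2]
        _ = _ := by group
    calc (h * g)⁻¹ * g * tb = g⁻¹ * (h⁻¹ * (g * tb * g⁻¹)) * g := by group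
      _ = g⁻¹ * (g * tb * g⁻¹ * h⁻¹) * g := by rw [h3]
      _ = _ := by group

theorem stab_eq (g : M.G) :
    MulAction.stabilizer M.G (QuotientGroup.mk g : X M) = Subgroup.centralizer ({g * tb * g⁻¹} : Set M.G) :=
  Subgroup.ext fun h => mem_stab g h

theorem card_pair_X {x y : X M} (h : cX M x y = 3) :
    Nat.card (MulAction.stabilizer M.G x ⊓ MulAction.stabilizer M.G y : Subgroup M.G) = 129123503308800 := by
  have : Finite M.G := BabyM.Instance.all.finite_G
  have := finX
  have hc := sch.isCol BabyM.Instance.all BabyM.Instance.tr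
  have h0 : Nat.card (MulAction.orbit M.G x) = 13571955000 := by
    rw [← card_X BabyM.Instance.all BabyM.Instance.tr]
    have : MulAction.orbit M.G x = Set.univ := by
      ext z
      simp only [Set.mem_univ, iff_true]
      obtain ⟨g, hg⟩ := hc.exists_smul x z
      exact ⟨g, hg⟩
    rw [this]
    exact Nat.card_congr (Equiv.Set.univ _)
  have h1 := Nat.card_congr (MulAction.orbitEquivQuotientStabilizer M.G x)
  have h2 := Subgroup.card_eq_card_quotient_mul_card_subgroup (MulAction.stabilizer M.G x)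
  rw [← h1, h0, BabyM.Instance.all.card_G] at h2
  set S := MulAction.stabilizer M.G x with hS
  have h3 : Nat.card (MulAction.orbit S y) = 2370830336 := by
    rw [← kk_three x]
    have : MulAction.orbit S y = {z | cX M x z = 3} := by
      ext z
      constructor
      · rintro ⟨s, rfl⟩
        show cX M x ((s : M.G) • y) = 3
        have hs : (s : M.G) • x = x := s.2
        rw [← h, ← hc.inv (s : M.G) x y, hs]
      · intro hz
        obtain ⟨g, hg1, hg2⟩ := hc.tr x y x z (h.trans (Eq.symm hz))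
        exact ⟨⟨g, hg1⟩, hg2⟩
    rw [this]
    rfl
  have h4 := Nat.card_congr (MulAction.orbitEquivQuotientStabilizer S y)
  have h5 := Subgroup.card_eq_card_quotient_mul_card_subgroup (MulAction.stabilizer S y)
  rw [← h4, h3] at h5
  have h6 : Nat.card (MulAction.stabilizer S y) = Nat.card (S ⊓ MulAction.stabilizer M.G y : Subgroup M.G) := by
    have : MulAction.stabilizer S y = (S ⊓ MulAction.stabilizer M.G y).subgroupOf S := by
      ext s
      constructor
      · intro hs
        exact ⟨s.2, hs⟩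
      · intro hs
        exact hs.2
    rw [this]
    exact Nat.card_congr (Subgroup.subgroupOfEquivOfLe inf_le_left).toEquiv
  rw [h6] at h5
  rw [h5] at h2
  omega

/-- **Two transpositions whose axes have inner product `± 1/4`.** -/
theorem card_pair {h k : M.G} (hc : col M ((h : V ≃ₗ[ℚ] V) M.d₀) ((k : V ≃ₗ[ℚ] V) M.d₀) = 3) :
    Nat.card (Subgroup.centralizer ({h * tb * h⁻¹} : Set M.G) ⊓ Subgroup.centralizer ({k * tb * k⁻¹} : Set M.G) :
      Subgroup M.G) = 129123503308800 := by
  rw [← stab_eq, ← stab_eq]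
  exact card_pair_X (by rw [cX_mk BabyM.Instance.all]; exact hc)

theorem tb_inv : tb⁻¹ = tb := by
  rw [inv_eq_iff_mul_eq_one]
  exact Subtype.ext BabyM.Instance.all.rep.t₀_sq

theorem g_tw (v : List Ltr) : H819.U33.g (tw v) = BM.StageW.Wg v * tb * (BM.StageW.Wg v)⁻¹ := by
  have h1 : BM.StageW.Wg (tw v) = BM.StageW.Wg v * tb * (BM.StageW.Wg v)⁻¹ := Subtype.ext (W_tw v)
  unfold H819.U33.g
  rw [h1, mul_inv_rev, mul_inv_rev, inv_inv, tb_inv, mul_assoc]

/-- **C1**, for words: the check is one inner product. -/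
theorem card_tw {v w : List Ltr} {k : ℤ} {i j : ℕ} (h : cchk (v ++ winv w) dv0 3 k i j = true) :
    Nat.card (Subgroup.centralizer ({H819.U33.g (tw v)} : Set M.G) ⊓
      Subgroup.centralizer ({H819.U33.g (tw w)} : Set M.G) : Subgroup M.G) = 129123503308800 := by
  rw [g_tw, g_tw]
  apply card_pair
  have h1 := cs (c := 3) 0 rfl h
  rw [M_d_zero, W_append, W_winv] at h1
  have h2 := col_smul BabyM.Instance.all (W_mem_MG w) ((W w)⁻¹ (W v M.d₀)) M.d₀
  rw [← h1]
  refine Eq.trans ?_ h2
  rw [show W w ((W w)⁻¹ (W v M.d₀)) = W v M.d₀ from (W w).apply_symm_apply _]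
  rfl

end

end Cfsg.Agent.H995.U33
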