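import Cfsg.Agent.H995.U33.Pair

/-!
# Box C of S5525 in the form of the main glue (helper995)
-/

set_option autoImplicit false

namespace Cfsg.Agent.H819.U33

open Subgroup

theorem XX_comm_f {h : G} (hh : h ∈ XX) : h * g wf = g wf * h := by
  have h1 : g wd1 * h = h * g wd1 := mem_centralizer_iff.1 hh _ (by simp)
  have h2 : g wd2 * h = h * g wd2 := mem_centralizer_iff.1 hh _ (by simp)
  rw [← d1_mul_d2, ← mul_assoc, ← h1, mul_assoc, ← h2, mul_assoc]

/-- **Box C**, from the bound `M3`. -/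
theorem dir_of (hb : Nat.card (centralizer ({g wf} : Set G)) ≤ 387370509926400) (k : G)
    (hk : k * g wf = g wf * k) : ∃ h ∈ XX, ∃ i : ℤ, k = h * g wf ^ i := by
  obtain ⟨i, -, h, hh, rfl⟩ := (cent_f hb).2 k hk
  refine ⟨h, hh, i, ?_⟩
  rw [zpow_natCast]
  have h1 : Commute h (g wf) := XX_comm_f hh
  exact ((h1.pow_right i).eq).symm

end Cfsg.Agent.H819.U33
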